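import Groth.Agent.FormAlg.FinLim

/-!
Torsion-free quotients `t^a M` and the sequences of multiplication by powers of `t`.
-/

set_option autoImplicit false
set_option backward.isDefEq.respectTransparency false
set_option linter.style.haveILetI false
set_option linter.unusedSectionVars false

universe u

open CategoryTheory CategoryTheory.Limits AlgebraicGeometry

noncomputable section

namespace Groth.Agent.FreeTrunc

variable {A : Type u} [CommRing A] {X : Scheme.{u}} [X.Over (Spec (CommRingCat.of A))] {M N : X.Modules}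
  (t : A) (a : ℕ)

/-- Multiplication by `t ^ j`. -/
abbrev P (M : X.Modules) (j : ℕ) : M ⟶ M := Formal.smulMod A M (t ^ j)

@[reassoc]
theorem P_natural (φ : M ⟶ N) (j : ℕ) : P t M j ≫ φ = φ ≫ P t N j := W7Cech.smulMod_natural A φ _

theorem P_add (M : X.Modules) (i j : ℕ) : P t M i ≫ P t M j = P t M (i + j) := by
  rw [P, P, W7Exist.smulMod_comp, ← pow_add, add_comm]

theorem P_zero (M : X.Modules) : P t M 0 = 𝟙 M := by
  rw [P, pow_zero, FormAlg.smulMod_one]

/-- The torsion is killed by `t ^ a`. -/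
def TF (M : X.Modules) : Prop :=
  ∀ ⦃K : X.Modules⦄ (β : K ⟶ M) (j : ℕ), β ≫ P t M (a + j) = 0 → β ≫ P t M a = 0

/-- The image of `t ^ a`. -/
abbrev Red (M : X.Modules) : X.Modules := image (P t M a)

abbrev toRed (M : X.Modules) : M ⟶ Red t a M := factorThruImage (P t M a)

abbrev ofRed (M : X.Modules) : Red t a M ⟶ M := image.ι (P t M a)

theorem toRed_ofRed (M : X.Modules) : toRed t a M ≫ ofRed t a M = P t M a := image.fac _

theorem ofRed_toRed (M : X.Modules) : ofRed t a M ≫ toRed t a M = P t (Red t a M) a := by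
  rw [← cancel_epi (toRed t a M), ← Category.assoc, toRed_ofRed, P_natural]

theorem mono_P (h : TF t a M) (j : ℕ) : Mono (P t (Red t a M) j) := by
  refine Preadditive.mono_of_cancel_zero _ fun {K} α hα => ?_
  rw [← cancel_epi (pullback.snd (toRed t a M) α), comp_zero]
  have hβ : pullback.fst (toRed t a M) α ≫ P t M (a + j) = 0 := by
    rw [← P_add, ← toRed_ofRed]
    simp only [Category.assoc]
    rw [pullback.condition_assoc, ← P_natural, reassoc_of% hα, zero_comp, comp_zero]
  have h0 := h _ j hβ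
  rw [← toRed_ofRed, pullback.condition_assoc] at h0
  rw [← cancel_mono (ofRed t a M), zero_comp, Category.assoc, h0]

/-- The quotient by `t ^ j`. -/
abbrev C (M : X.Modules) (j : ℕ) : X.Modules := cokernel (P t M j)

abbrev cπ (M : X.Modules) (j : ℕ) : M ⟶ C t M j := cokernel.π _

theorem P_C_zero (M : X.Modules) (j : ℕ) : P t (C t M j) j = 0 := by
  rw [← cancel_epi (cπ t M j), ← P_natural, cokernel.condition, comp_zero]

/-- The change of level. -/
def red (M : X.Modules) {l k : ℕ} (h : l ≤ k) : C t M k ⟶ C t M l :=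
  cokernel.desc _ (cπ t M l) (by
    rw [show k = (k - l) + l by omega, ← P_add, Category.assoc, cokernel.condition, comp_zero])

@[reassoc (attr := simp)]
theorem cπ_red (M : X.Modules) {l k : ℕ} (h : l ≤ k) : cπ t M k ≫ red t M h = cπ t M l :=
  cokernel.π_desc _ _ _

instance epi_red (M : X.Modules) {l k : ℕ} (h : l ≤ k) : Epi (red t M h) := by
  haveI : Epi (cπ t M k ≫ red t M h) := by rw [cπ_red]; infer_instance
  exact epi_of_epi (cπ t M k) _

/-- `M' → M' → M'/t^k`. -/
def seqA (M : X.Modules) (k : ℕ) : ShortComplex X.Modules :=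
  ShortComplex.mk (P t (Red t a M) k) (cπ t (Red t a M) k) (cokernel.condition _)

theorem seqA_shortExact (h : TF t a M) (k : ℕ) : (seqA t a M k).ShortExact where
  exact := ShortComplex.exact_cokernel _
  mono_f := mono_P t a h k
  epi_g := inferInstanceAs (Epi (cokernel.π _))

theorem ofRed_P_cπ (M : X.Modules) (j : ℕ) : (ofRed t a M ≫ P t M j) ≫ cπ t M (a + j) = 0 := by
  rw [← cancel_epi (toRed t a M), comp_zero, ← Category.assoc, ← Category.assoc, toRed_ofRed, P_add,
    cokernel.condition]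

theorem mono_eps (h : TF t a M) (j : ℕ) : Mono (ofRed t a M ≫ P t M j) := by
  haveI := mono_P t a h j
  rw [← P_natural]
  exact mono_comp _ _

/-- `M' → M → M/t^(a+j)`. -/
def seqB (M : X.Modules) (j : ℕ) : ShortComplex X.Modules :=
  ShortComplex.mk (ofRed t a M ≫ P t M j) (cπ t M (a + j)) (ofRed_P_cπ t a M j)

theorem seqB_shortExact (h : TF t a M) (j : ℕ) : (seqB t a M j).ShortExact where
  exact :=
    haveI : Epi (seqB t a M j).g := inferInstanceAs (Epi (cokernel.π _))
    ShortComplex.exact_of_g_is_cokernel _ (CokernelCofork.IsColimit.ofπ' _ _ fun {W} g hg =>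
    ⟨cokernel.desc _ g (by
      rw [← P_add, ← toRed_ofRed, Category.assoc, Category.assoc]
      rw [← Category.assoc (ofRed t a M)]
      erw [hg]
      exact comp_zero), cokernel.π_desc _ _ _⟩)
  mono_f := mono_eps t a h j
  epi_g := inferInstanceAs (Epi (cokernel.π _))

/-- `M/t^(a+k) → M'/t^k`. -/
def toRedC (M : X.Modules) (k : ℕ) : C t M (a + k) ⟶ C t (Red t a M) k :=
  cokernel.desc _ (toRed t a M ≫ cπ t (Red t a M) k) (by
    rw [← P_add, Category.assoc, ← Category.assoc (P t M k), P_natural t (toRed t a M), Category.assoc,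
      cokernel.condition, comp_zero, comp_zero])

/-- `M'/t^k → M/t^(a+k)`. -/
def ofRedC (M : X.Modules) (k : ℕ) : C t (Red t a M) k ⟶ C t M (a + k) :=
  cokernel.desc _ (ofRed t a M ≫ cπ t M (a + k)) (by
    rw [← Category.assoc, P_natural t (ofRed t a M), ofRed_P_cπ])

@[reassoc (attr := simp)]
theorem cπ_toRedC (M : X.Modules) (k : ℕ) :
    cπ t M (a + k) ≫ toRedC t a M k = toRed t a M ≫ cπ t (Red t a M) k := cokernel.π_desc _ _ _

@[reassoc (attr := simp)]
theorem cπ_ofRedC (M : X.Modules) (k : ℕ) :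
    cπ t (Red t a M) k ≫ ofRedC t a M k = ofRed t a M ≫ cπ t M (a + k) := cokernel.π_desc _ _ _

theorem toRedC_ofRedC (M : X.Modules) (k : ℕ) : toRedC t a M k ≫ ofRedC t a M k = P t (C t M (a + k)) a := by
  rw [← cancel_epi (cπ t M (a + k)), cπ_toRedC_assoc, cπ_ofRedC, ← Category.assoc, toRed_ofRed, P_natural]

instance epi_toRedC (M : X.Modules) (k : ℕ) : Epi (toRedC t a M k) := by
  haveI : Epi (cπ t M (a + k) ≫ toRedC t a M k) := by rw [cπ_toRedC]; infer_instance
  exact epi_of_epi (cπ t M (a + k)) _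

/-- The map of sequences. -/
def homAB (M : X.Modules) (k : ℕ) : seqA t a M k ⟶ seqB t a M k :=
  ShortComplex.homMk (𝟙 _) (ofRed t a M) (ofRedC t a M k)
    (by dsimp [seqA, seqB]; rw [Category.id_comp, P_natural])
    (by dsimp [seqA, seqB]; rw [cπ_ofRedC])

theorem mono_ofRedC (h : TF t a M) (k : ℕ) : Mono (ofRedC t a M k) := by
  refine Preadditive.mono_of_cancel_zero _ fun {K} α hα => ?_
  let β := pullback.fst (cπ t (Red t a M) k) α
  rw [← cancel_epi (pullback.snd (cπ t (Red t a M) k) α), comp_zero, ← pullback.condition]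
  have hβ : (β ≫ ofRed t a M) ≫ (seqB t a M k).g = 0 := by
    show (β ≫ ofRed t a M) ≫ cπ t M (a + k) = 0
    rw [Category.assoc, ← cπ_ofRedC, pullback.condition_assoc, hα, comp_zero]
  haveI := (seqB_shortExact t a h k).mono_f
  let δ := (seqB_shortExact t a h k).exact.lift _ hβ
  have hδ : δ ≫ ofRed t a M ≫ P t M k = β ≫ ofRed t a M := (seqB_shortExact t a h k).exact.lift_f _ hβ
  rw [← P_natural, ← Category.assoc, cancel_mono] at hδ
  show β ≫ cπ t (Red t a M) k = 0
  rw [← hδ, Category.assoc]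
  exact (congrArg (δ ≫ ·) (cokernel.condition _)).trans comp_zero

/-- An isomorphism of the quotients by `t^(a+k)` induces one of the torsion-free quotients by `t^k`. -/
theorem exists_iso_redC (hM : TF t a M) (hN : TF t a N) (k : ℕ) (φ : C t M (a + k) ≅ C t N (a + k)) :
    ∃ θ : C t (Red t a M) k ≅ C t (Red t a N) k,
      toRedC t a M k ≫ θ.hom = φ.hom ≫ toRedC t a N k := by
  haveI := mono_ofRedC t a hM k
  haveI := mono_ofRedC t a hN k
  have key : ∀ {M N : X.Modules} [Mono (ofRedC t a N k)] (φ : C t M (a + k) ⟶ C t N (a + k)),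
      kernel.ι (toRedC t a M k) ≫ φ ≫ toRedC t a N k = 0 := fun {M N} _ φ => by
    rw [← cancel_mono (ofRedC t a N k), zero_comp, Category.assoc, Category.assoc, toRedC_ofRedC,
      ← P_natural, ← toRedC_ofRedC, Category.assoc, kernel.condition_assoc, zero_comp]
  refine ⟨⟨Abelian.epiDesc _ (φ.hom ≫ toRedC t a N k) (key φ.hom),
    Abelian.epiDesc _ (φ.inv ≫ toRedC t a M k) (key φ.inv), ?_, ?_⟩, Abelian.comp_epiDesc _ _ _⟩
  · rw [← cancel_epi (toRedC t a M k), Abelian.comp_epiDesc_assoc, Category.assoc, Abelian.comp_epiDesc,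
      Iso.hom_inv_id_assoc, Category.comp_id]
  · rw [← cancel_epi (toRedC t a N k), Abelian.comp_epiDesc_assoc, Category.assoc, Abelian.comp_epiDesc,
      Iso.inv_hom_id_assoc, Category.comp_id]

/-- The isomorphisms at the first level. -/
theorem exists_iso_red_one (k : ℕ) (hk : 1 ≤ k) (θ : C t M k ≅ C t N k) :
    ∃ θ' : C t M 1 ≅ C t N 1, red t M hk ≫ θ'.hom = θ.hom ≫ red t N hk := by
  have key : ∀ {M N : X.Modules} (θ : C t M k ⟶ C t N k),
      P t M 1 ≫ cπ t M k ≫ θ ≫ red t N hk = 0 := fun {M N} θ => by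
    rw [← Category.assoc, P_natural, Category.assoc, P_natural_assoc, P_natural, P_C_zero, comp_zero, comp_zero,
      comp_zero]
  let d : C t M 1 ⟶ C t N 1 := cokernel.desc _ _ (key θ.hom)
  let d' : C t N 1 ⟶ C t M 1 := cokernel.desc _ _ (key θ.inv)
  have hd : red t M hk ≫ d = θ.hom ≫ red t N hk := by
    rw [← cancel_epi (cπ t M k), cπ_red_assoc, cokernel.π_desc]
  have hd' : red t N hk ≫ d' = θ.inv ≫ red t M hk := by
    rw [← cancel_epi (cπ t N k), cπ_red_assoc, cokernel.π_desc]
  refine ⟨⟨d, d', ?_, ?_⟩, hd⟩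
  · rw [← cancel_epi (red t M hk), reassoc_of% hd, hd', Iso.hom_inv_id_assoc, Category.comp_id]
  · rw [← cancel_epi (red t N hk), reassoc_of% hd', hd, Iso.inv_hom_id_assoc, Category.comp_id]

end Groth.Agent.FreeTrunc
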