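import Groth.Agent.FreeTrunc.Basic
import Mathlib.RingTheory.Artinian.Module

/-!
Lifting sections from truncations.
-/

set_option autoImplicit false
set_option backward.isDefEq.respectTransparency false
set_option linter.style.haveILetI false
set_option linter.unusedSectionVars false

universe u

open CategoryTheory CategoryTheory.Limits AlgebraicGeometry
open Groth.Agent.CohFinite (hhMap hhδ)

noncomputable section

namespace Groth.Agent.FreeTrunc

variable {A : Type u} [CommRing A] {X : Scheme.{u}} [X.Over (Spec (CommRingCat.of A))] {M N : X.Modules}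
  (t : A) (a : ℕ)

theorem hhMap_P (M : X.Modules) (j q : ℕ) (x : Coh.HH X M q) : hhMap A (P t M j) q x = t ^ j • x :=
  FormAlg.hhMap_smulMod M _ q x

/-- The torsion of `H^1` of the torsion-free quotient is killed by `t ^ c`. -/
def TorsLE (M : X.Modules) (c : ℕ) : Prop :=
  ∀ (j : ℕ) (x : Coh.HH X (Red t a M) 1), t ^ j • x = 0 → t ^ c • x = 0

/-- The classes at level `1` coming from level `k` lift. -/
def Lifts (M : X.Modules) (k : ℕ) (hk : 1 ≤ k) : Prop :=
  LinearMap.range (hhMap A (red t (Red t a M) hk) 0) ≤ LinearMap.range (hhMap A (cπ t (Red t a M) 1) 0)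

/-- The ladder on the torsion-free quotients. -/
def ladderA (M : X.Modules) (c : ℕ) : seqA t a M (c + 1) ⟶ seqA t a M 1 :=
  ShortComplex.homMk (P t _ c) (𝟙 _) (red t _ (Nat.succ_pos c))
    (by dsimp [seqA]; rw [P_add, Category.comp_id])
    (by dsimp [seqA]; rw [cπ_red, Category.id_comp])

/-- The ladder on the module. -/
def ladderB (M : X.Modules) (c : ℕ) : seqB t a M (c + 1) ⟶ seqB t a M 1 :=
  ShortComplex.homMk (P t _ c) (𝟙 _) (red t _ (by omega))
    (by dsimp [seqB]; rw [P_natural_assoc, P_add, Category.comp_id])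
    (by dsimp [seqB]; rw [cπ_red, Category.id_comp])

theorem torsLE_lifts (h : TF t a M) (c : ℕ) (hc : TorsLE t a M c) :
    Lifts t a M (c + 1) (Nat.succ_pos c) := by
  rintro _ ⟨w, rfl⟩
  refine (CohFinite.δH_eq_zero_iff (CohFinite.shortExact_toAb (seqA_shortExact t a h 1)) 0 _).1 ?_
  show hhδ A (seqA_shortExact t a h 1) 0 (hhMap A (ladderA t a M c).τ₃ 0 w) = 0
  rw [← FormAlg.hhδ_natural (seqA_shortExact t a h (c + 1))]
  refine (hhMap_P t _ c 1 _).trans (hc (c + 1) _ ?_)
  refine (hhMap_P t _ (c + 1) 1 _).symm.trans ?_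
  exact (CohFinite.map_f_eq_zero_iff (CohFinite.shortExact_toAb (seqA_shortExact t a h (c + 1))) 0 _).2 ⟨w, rfl⟩

theorem torsLE_of_lifts (h : TF t a M) (c : ℕ) (hl : Lifts t a M (c + 1) (Nat.succ_pos c)) :
    TorsLE t a M c := by
  have key : ∀ x : Coh.HH X (Red t a M) 1, t ^ (c + 1) • x = 0 → t ^ c • x = 0 := fun x hx => by
    obtain ⟨w, rfl⟩ := (CohFinite.map_f_eq_zero_iff (CohFinite.shortExact_toAb (seqA_shortExact t a h (c + 1))) 0 x).1
      ((hhMap_P t _ (c + 1) 1 x).trans hx)
    show t ^ c • hhδ A (seqA_shortExact t a h (c + 1)) 0 w = 0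
    rw [← hhMap_P]
    refine (FormAlg.hhδ_natural (seqA_shortExact t a h (c + 1)) (seqA_shortExact t a h 1) (ladderA t a M c) 0 w).trans ?_
    exact (CohFinite.δH_eq_zero_iff (CohFinite.shortExact_toAb (seqA_shortExact t a h 1)) 0 _).2
      (hl ⟨w, rfl⟩)
  intro j
  induction j with
  | zero => intro x hx; rw [pow_zero, one_smul] at hx; rw [hx, smul_zero]
  | succ j ih =>
    intro x hx
    rcases Nat.lt_or_ge j c with hj | hj
    · rw [show c = (c - (j + 1)) + (j + 1) by omega, pow_add, mul_smul, hx, smul_zero]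
    · refine ih x ?_
      have h1 := key (t ^ (j - c) • x) (by rw [← mul_smul, ← pow_add, show c + 1 + (j - c) = j + 1 by omega, hx])
      rw [← mul_smul, ← pow_add, show c + (j - c) = j by omega] at h1
      exact h1

theorem ker_cπ (h : TF t a M) :
    LinearMap.ker (hhMap A (cπ t (Red t a M) 1) 0) = LinearMap.range (LinearMap.lsmul A (Coh.HH X (Red t a M) 0) t) := by
  ext x
  refine (CohFinite.map_g_eq_zero_iff (CohFinite.shortExact_toAb (seqA_shortExact t a h 1)) 0 x).trans ?_
  show (∃ y : Coh.HH X (Red t a M) 0, hhMap A (P t (Red t a M) 1) 0 y = x) ↔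
    ∃ y : Coh.HH X (Red t a M) 0, t • y = x
  simp only [hhMap_P, pow_one]

/-- A finite module killed by `t` is artinian when `A/t` is. -/
theorem isArtinian_of_killed [IsArtinian A (A ⧸ Ideal.span {t})] (V : Type u) [AddCommGroup V] [Module A V]
    [Module.Finite A V] (hV : ∀ v : V, t • v = 0) : IsArtinian A V := by
  classical
  obtain ⟨m, g, hg⟩ := Module.Finite.exists_fin (R := A) (M := V)
  let Φ : (Fin m → A ⧸ Ideal.span {t}) →ₗ[A] V :=
    ∑ i, (Submodule.liftQ _ (LinearMap.toSpanSingleton A V (g i)) (by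
      refine Submodule.span_le.2 ?_
      rintro _ rfl
      exact hV (g i))).comp (LinearMap.proj i)
  refine isArtinian_of_surjective _ Φ (LinearMap.range_eq_top.1 (top_le_iff.1 (hg ▸ Submodule.span_le.2 ?_)))
  rintro _ ⟨i, rfl⟩
  refine ⟨Pi.single i (Submodule.Quotient.mk 1), ?_⟩
  simp only [Φ, LinearMap.sum_apply, LinearMap.coe_comp, Function.comp_apply, LinearMap.coe_proj, Function.eval]
  rw [Finset.sum_eq_single i (fun j _ hj => by rw [Pi.single_eq_of_ne hj, map_zero])
    (fun hi => absurd (Finset.mem_univ i) hi), Pi.single_eq_same]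
  exact one_smul A (g i)

variable [IsArtinian A (A ⧸ Ideal.span {t})]

/-- Liftability transfers along an isomorphism of truncations. -/
theorem lifts_of_iso (hM : TF t a M) (hN : TF t a N) (k : ℕ) (hk : 1 ≤ k)
    [Module.Finite A (Coh.HH X (Red t a N) 0)]
    (L : Coh.HH X (Red t a M) 0 ≃ₗ[A] Coh.HH X (Red t a N) 0)
    (φ : C t M (a + k) ≅ C t N (a + k)) (hl : Lifts t a N k hk) : Lifts t a M k hk := by
  obtain ⟨θ, -⟩ := exists_iso_redC t a hM hN k φ
  obtain ⟨θ', hθ'⟩ := exists_iso_red_one t k hk θ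
  let cM := hhMap A (cπ t (Red t a M) 1) 0
  let cN := hhMap A (cπ t (Red t a N) 1) 0
  let gM := hhMap A (red t (Red t a M) hk) 0
  let gN := hhMap A (red t (Red t a N) hk) 0
  let e := CohFinite.hhEquiv A θ' 0
  have hsq : ∀ w, e (gM w) = gN (CohFinite.hhEquiv A θ 0 w) := fun w =>
    ((CohFinite.hhMap_comp A _ _ 0 w).symm.trans (congrArg (fun f => hhMap A f 0 w) hθ')).trans
      (CohFinite.hhMap_comp A _ _ 0 w)
  have hcg : LinearMap.range cM ≤ LinearMap.range gM := by
    rintro _ ⟨x, rfl⟩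
    refine ⟨hhMap A (cπ t (Red t a M) k) 0 x, ?_⟩
    rw [← CohFinite.hhMap_comp, cπ_red]
  let eq : LinearMap.range cM ≃ₗ[A] LinearMap.range cN :=
    cM.quotKerEquivRange.symm ≪≫ₗ Submodule.Quotient.equiv _ _ L (by
      rw [ker_cπ t a hM, ker_cπ t a hN, ← LinearMap.range_comp]
      refine le_antisymm ?_ ?_
      · rintro _ ⟨y, rfl⟩
        exact ⟨L y, (map_smul L t y).symm⟩
      · rintro _ ⟨y, rfl⟩
        exact ⟨L.symm y, (map_smul L t (L.symm y)).trans (congrArg (t • ·) (L.apply_symm_apply y))⟩) ≪≫ₗ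
      cN.quotKerEquivRange
  haveI : IsArtinian A (LinearMap.range cN) :=
    isArtinian_of_killed t _ fun v => by
      obtain ⟨y, hy⟩ := v.2
      refine Subtype.ext ?_
      show t • v.1 = 0
      rw [← hy, ← map_smul]
      exact LinearMap.mem_ker.1 ((ker_cπ t a hN).ge ⟨y, rfl⟩)
  have hmem : ∀ v, v ∈ LinearMap.range gM → e v ∈ LinearMap.range cN := by
    rintro _ ⟨w, rfl⟩
    exact hl ⟨_, (hsq w).symm⟩
  let i : LinearMap.range cM →ₗ[A] LinearMap.range cN :=
    LinearMap.codRestrict _ (e.toLinearMap.comp (LinearMap.range cM).subtype) fun v => hmem _ (hcg v.2)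
  have hi : Function.Injective i := fun v w h => Subtype.ext (e.injective (congrArg Subtype.val h))
  have hsur : Function.Surjective i := by
    have h1 : Function.Surjective (i.comp eq.symm.toLinearMap) :=
      IsArtinian.surjective_of_injective_endomorphism _ (hi.comp eq.symm.injective)
    exact fun y => (h1 y).elim fun x hx => ⟨eq.symm x, hx⟩
  intro v hv
  obtain ⟨w, hw⟩ := hsur ⟨e v, hmem v hv⟩
  exact e.injective (congrArg Subtype.val hw) ▸ w.2

/-- Classes at level `a + (c + 1)` lift at level `a + 1`. -/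
theorem exists_lift (h : TF t a M) (c : ℕ) (hc : TorsLE t a M c) (z : Coh.HH X (C t M (a + (c + 1))) 0) :
    ∃ s : Coh.HH X M 0, hhMap A (cπ t M (a + 1)) 0 s = hhMap A (red t M (by omega : a + 1 ≤ a + (c + 1))) 0 z := by
  refine (CohFinite.δH_eq_zero_iff (CohFinite.shortExact_toAb (seqB_shortExact t a h 1)) 0 _).1 ?_
  show hhδ A (seqB_shortExact t a h 1) 0 (hhMap A (ladderB t a M c).τ₃ 0 z) = 0
  rw [← FormAlg.hhδ_natural (seqB_shortExact t a h (c + 1))]
  refine (hhMap_P t _ c 1 _).trans (hc (c + 1 + a) _ ?_)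
  refine (hhMap_P t _ (c + 1 + a) 1 _).symm.trans ?_
  have e : P t (Red t a M) (c + 1 + a) = (ofRed t a M ≫ P t M (c + 1)) ≫ toRed t a M := by
    rw [← P_natural t (ofRed t a M), Category.assoc, ofRed_toRed, P_add]
  refine (congrArg (fun f => hhMap A f 1 (hhδ A (seqB_shortExact t a h (c + 1)) 0 z)) e).trans ?_
  refine (CohFinite.hhMap_comp A (ofRed t a M ≫ P t M (c + 1)) (toRed t a M) 1 _).trans ?_
  refine Eq.trans (congrArg _ ?_) (map_zero _)
  exact (CohFinite.map_f_eq_zero_iff (CohFinite.shortExact_toAb (seqB_shortExact t a h (c + 1))) 0 _).2 ⟨z, rfl⟩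

end Groth.Agent.FreeTrunc
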