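import Groth.Agent.FreeTrunc.Sections
import Groth.Agent.TFOneLib.Fibre
import Groth.Agent.QuotProj.EpiIso
import Groth.Agent.ModDesc.LocFreeDesc
import Groth.Agent.TMul.Pullback
import Groth.Agent.EtPBC.HensDvrStalk

/-!
A locally free module free generically and on a truncation is free.
-/

set_option autoImplicit false
set_option backward.isDefEq.respectTransparency false
set_option linter.style.haveILetI false
set_option linter.unusedSectionVars false

universe u

open CategoryTheory CategoryTheory.Limits AlgebraicGeometry TopologicalSpace Opposite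
open Groth.Agent.QC (res resO res_res res_self res_smul resO_resO app_res)
open Groth.Agent.CohFinite (hhMap)
open Groth.Agent.W7Cech (secRing)

noncomputable section

namespace Groth.Agent.FreeTrunc

variable {A : Type u} [CommRing A] {X : Scheme.{u}} [X.Over (Spec (CommRingCat.of A))] (t : A) (a : ℕ)

/-- Functoriality of the torsion-free quotient. -/
def redMap {M N : X.Modules} (f : M ⟶ N) : Red t a M ⟶ Red t a N :=
  Abelian.epiDesc (toRed t a M) (f ≫ toRed t a N) (by
    rw [← cancel_mono (ofRed t a N), zero_comp, Category.assoc, Category.assoc, toRed_ofRed, ← P_natural,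
      ← toRed_ofRed, Category.assoc, kernel.condition_assoc, zero_comp])

@[reassoc (attr := simp)]
theorem toRed_redMap {M N : X.Modules} (f : M ⟶ N) : toRed t a M ≫ redMap t a f = f ≫ toRed t a N :=
  Abelian.comp_epiDesc _ _ _

theorem torsLE_sum {ι : Type} [Fintype ι] {M : X.Modules} {N : X.Modules} (c : ℕ) (i : ι → (N ⟶ M))
    (p : ι → (M ⟶ N)) (h : ∑ j, p j ≫ i j = 𝟙 M) (hN : TorsLE t a N c) : TorsLE t a M c := by
  intro j x hx
  have hsum : ∑ l, redMap t a (p l) ≫ redMap t a (i l) = 𝟙 (Red t a M) := by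
    rw [← cancel_epi (toRed t a M), Preadditive.comp_sum, Category.comp_id]
    calc _ = ∑ l, (p l ≫ i l) ≫ toRed t a M := Finset.sum_congr rfl fun l _ => by
          rw [toRed_redMap_assoc, toRed_redMap, Category.assoc]
      _ = _ := by rw [← Preadditive.sum_comp, h, Category.id_comp]
  have e : t ^ c • x = hhMap A (P t (Red t a M) c) 1 x := (hhMap_P t _ c 1 x).symm
  have hz : ∀ l, redMap t a (p l) ≫ redMap t a (i l) ≫ P t (Red t a M) c =
      redMap t a (p l) ≫ P t (Red t a N) c ≫ redMap t a (i l) := fun l => by rw [P_natural]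
  rw [e, show P t (Red t a M) c = ∑ l, redMap t a (p l) ≫ P t (Red t a N) c ≫ redMap t a (i l) by
    rw [← Finset.sum_congr rfl (fun l _ => hz l)]
    simp only [← Category.assoc]
    rw [← Preadditive.sum_comp, hsum, Category.id_comp]]
  have hadd : hhMap A (∑ l, redMap t a (p l) ≫ P t (Red t a N) c ≫ redMap t a (i l)) 1 x =
      ∑ l, hhMap A (redMap t a (p l) ≫ P t (Red t a N) c ≫ redMap t a (i l)) 1 x := by
    show Sheaf.H.map ((CohQC.toAbF X).map (∑ l, _)) 1 x = ∑ l, Sheaf.H.map ((CohQC.toAbF X).map _) 1 x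
    rw [Functor.map_sum]
    exact map_sum (AddMonoidHom.mk' (fun f => Sheaf.H.map f 1 x) (fun f g => Sheaf.H.map_add_apply f g _)) _ _
  rw [hadd]
  refine Finset.sum_eq_zero fun l _ => ?_
  rw [CohFinite.hhMap_comp, CohFinite.hhMap_comp, hhMap_P, hN j _ (by rw [← map_smul, hx, map_zero]), map_zero]

theorem torsLE_freeMod {c : ℕ} (h : TorsLE t a (Coh.structureModule X) c) (r : ℕ) :
    TorsLE t a (FlatMod.freeMod X r) c := by
  classical
  refine torsLE_sum t a c (Sigma.ι fun _ : Fin r => Coh.structureModule X)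
    (Sigma.π fun _ : Fin r => Coh.structureModule X) ?_ h
  refine Sigma.hom_ext _ _ fun j => ?_
  rw [Preadditive.comp_sum, Category.comp_id]
  rw [Finset.sum_eq_single j]
  · rw [Sigma.ι_π_eq_id_assoc]
  · intro b _ hb; rw [Sigma.ι_π_of_ne_assoc _ hb.symm, zero_comp]
  · simp

section DVR

variable {R : Type u} [CommRing R] [IsDomain R] [IsDiscreteValuationRing R] {ϖ : R} (hϖ : Irreducible ϖ)
  {X : Scheme.{u}} [X.Over (Spec (CommRingCat.of R))] [IsProper (X ↘ Spec (CommRingCat.of R))]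

include hϖ in
theorem free_red {E : X.Modules} (hE : FlatMod.IsFinLocFree E) (hT : TF ϖ a E) :
    Module.Free R (Coh.HH X (Red ϖ a E) 0) := by
  haveI := finite_hh_red ϖ a hE 0
  haveI : Module.IsTorsionFree R (Coh.HH X (Red ϖ a E) 0) := ⟨fun c hc => by
    have hc0 : c ≠ 0 := hc.ne_zero
    obtain ⟨k, u, rfl⟩ := IsDiscreteValuationRing.eq_unit_mul_pow_irreducible hc0 hϖ
    intro x y hxy
    simp only [mul_smul, Units.smul_def] at hxy
    have h2 : ϖ ^ k • x = ϖ ^ k • y := (u.isUnit.smul_left_cancel).1 hxy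
    rw [← hhMap_P, ← hhMap_P] at h2
    exact CohFinite.map_f_injective (CohFinite.shortExact_toAb (seqA_shortExact ϖ a hT k)) h2⟩
  exact Module.free_of_finite_type_torsion_free'

include hϖ in
theorem exists_equiv_red {E F : X.Modules} (hTE : TF ϖ a E) (hTF : TF ϖ a F) (hE : FlatMod.IsFinLocFree E)
    (hF : FlatMod.IsFinLocFree F) (W : X.Opens) (hWD : W = X.basicOpen (secRing R (⊤ : X.Opens) ϖ))
    (ψ : Γ(E, W) ≃+ Γ(F, W)) (hψ : ∀ (c : Γ(X, W)) (z : Γ(E, W)), ψ (c • z) = c • ψ z) :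
    Nonempty (Coh.HH X (Red ϖ a E) 0 ≃ₗ[R] Coh.HH X (Red ϖ a F) 0) := by
  haveI := finite_hh_red ϖ a hE 0
  haveI := finite_hh_red ϖ a hF 0
  haveI := free_red a hϖ hE hTE
  haveI := free_red a hϖ hF hTF
  obtain ⟨Ψ, hΨ⟩ := exists_injective ϖ a hTE hTF hE hF W hWD ψ.toAddMonoidHom hψ ψ.injective
  obtain ⟨Ψ', hΨ'⟩ := exists_injective ϖ a hTF hTE hF hE W hWD ψ.symm.toAddMonoidHom
    (fun c z => ψ.injective (by simp [hψ])) ψ.symm.injective
  exact ⟨LinearEquiv.ofFinrankEq _ _ (le_antisymm (LinearMap.finrank_le_finrank_of_injective hΨ)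
    (LinearMap.finrank_le_finrank_of_injective hΨ'))⟩

include hϖ in
theorem ker_thick (n : ℕ) {Z : Scheme.{u}} (i : Z ⟶ X) (g : Z ⟶ Spec (CommRingCat.of (R ⧸ Ideal.span {ϖ ^ n})))
    (hsq : IsPullback i g (X ↘ Spec (CommRingCat.of R)) (Spec.map (CommRingCat.ofHom (Ideal.Quotient.mk (Ideal.span {ϖ ^ n})))))
    (V : X.affineOpens) : i.ker.ideal V = Ideal.span {secRing R V.1 (ϖ ^ n)} := by
  let π := ϖ ^ n
  let d : Spec (CommRingCat.of (R ⧸ Ideal.span {π})) ⟶ Spec (CommRingCat.of R) :=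
    Spec.map (CommRingCat.ofHom (Ideal.Quotient.mk (Ideal.span {π})))
  haveI : IsClosedImmersion d :=
    IsClosedImmersion.spec_of_surjective _ (by exact Ideal.Quotient.mk_surjective)
  let U₀ : (Spec (CommRingCat.of R)).affineOpens := ⟨⊤, isAffineOpen_top _⟩
  have hd : d.ker.ideal U₀ = Ideal.span {(Scheme.ΓSpecIso (CommRingCat.of R)).inv.hom π} := by
    rw [Scheme.Hom.ker_apply]
    let e := (Scheme.ΓSpecIso (CommRingCat.of R)).commRingCatIsoToRingEquiv
    have hnat : ∀ y, (Scheme.ΓSpecIso (CommRingCat.of (R ⧸ Ideal.span {π}))).hom.hom (d.appTop.hom y) =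
        Ideal.Quotient.mk (Ideal.span {π}) (e y) := fun y =>
      congrArg (fun φ => φ.hom y) (Scheme.ΓSpecIso_naturality (CommRingCat.ofHom (Ideal.Quotient.mk (Ideal.span {π}))))
    ext y
    have h1 : d.appTop.hom y = 0 ↔ e y ∈ Ideal.span {π} := by
      rw [← Ideal.Quotient.eq_zero_iff_mem, ← hnat]
      exact (map_eq_zero_iff _
        ((Scheme.ΓSpecIso (CommRingCat.of (R ⧸ Ideal.span {π}))).commRingCatIsoToRingEquiv.injective)).symm
    rw [RingHom.mem_ker]
    refine (show d.appTop.hom y = 0 ↔ _ from h1).trans ?_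
    rw [Ideal.mem_span_singleton, Ideal.mem_span_singleton]
    change _ ↔ e.symm π ∣ y
    rw [← map_dvd_iff e, RingEquiv.apply_symm_apply]
  rw [ThickSys.ker_of_isPullback hsq,
    FpqcDescent.ideal_comap_appLE d.ker _ U₀ V (fun x _ => trivial), hd, Ideal.map_span, Set.image_singleton]
  refine congrArg (fun a => Ideal.span {a}) ?_
  rfl

include hϖ in
theorem closed_point_over (x : X) (hx : IsClosed ({x} : Set X)) :
    (X ↘ Spec (CommRingCat.of R)).base x = IsLocalRing.closedPoint R := by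
  have h := (X ↘ Spec (CommRingCat.of R)).isClosedMap _ hx
  rw [Set.image_singleton, PrimeSpectrum.isClosed_singleton_iff_isMaximal] at h
  exact PrimeSpectrum.ext (IsLocalRing.eq_maximalIdeal h)

theorem freeRank (X : Scheme.{u}) (n : ℕ) : FlatMod.IsFinLocFreeOfRank n (FlatMod.freeMod X n) := fun _ =>
  ⟨⊤, trivial, ⟨(Scheme.Modules.restrictFunctorIsoPullback _).app _ ≪≫ DerPerf.pullFreeIso _ n⟩⟩

include hϖ in
theorem mem_basicOpen_of_closed {U : X.Opens} {x : X} (hxU : x ∈ U)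
    (hx : (X ↘ Spec (CommRingCat.of R)).base x = IsLocalRing.closedPoint R) (j : ℕ) :
    x ∉ X.basicOpen (secRing R U (ϖ ^ (j + 1))) := by
  intro h
  have h1 : x ∈ X.basicOpen (Coh.toGlobal (X ↘ Spec (CommRingCat.of R)) (ϖ ^ (j + 1))) :=
    QC.basicOpen_resO_le _ _ h
  have h2 : x ∈ (X ↘ Spec (CommRingCat.of R)) ⁻¹ᵁ
      (Spec (CommRingCat.of R)).basicOpen ((Scheme.ΓSpecIso (CommRingCat.of R)).inv (ϖ ^ (j + 1))) := by
    rw [Scheme.preimage_basicOpen]
    exact h1
  rw [Scheme.Hom.mem_preimage, basicOpen_eq_of_affine, hx] at h2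
  exact h2 (Ideal.pow_mem_of_mem _ hϖ.not_isUnit _ (Nat.succ_pos j))

include hϖ in
theorem isZero_of_epi_P {Q : X.Modules} (hQ : Coh.IsCoh Q) (hQ1 : Epi (P ϖ Q (a + 1))) : IsZero Q := by
  haveI : IsLocallyNoetherian X := LocallyOfFiniteType.isLocallyNoetherian (X ↘ Spec (CommRingCat.of R))
  haveI : CompactSpace X := QuasiCompact.compactSpace_of_compactSpace (X ↘ Spec (CommRingCat.of R))
  haveI := hQ.1
  refine GrT.isZero_modules_of_subsingleton fun U' z => QC.section_eq_of_locally fun x hx => ?_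
  obtain ⟨y, hy, hyc⟩ := IsClosed.exists_closed_singleton (isClosed_closure (s := ({x} : Set X)))
    (Set.singleton_nonempty x).closure
  obtain ⟨U, hU, hyU, -⟩ := exists_isAffineOpen_mem_and_subset (x := y) (U := ⊤) trivial
  have hxU : x ∈ U := (specializes_iff_mem_closure.2 hy).mem_open U.2 hyU
  haveI : Module.Finite Γ(X, U) Γ(Q, U) := by
    haveI := LocFree.finitePresentation_sections_of_isFP hQ.1 (QC.isFP_of_isQCoh_of_isFT hQ.2) hU
    infer_instance
  obtain ⟨r, hr, hr0⟩ := Submodule.exists_sub_one_mem_and_smul_eq_zero_of_fg_of_le_smul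
    (Ideal.span {secRing R U (ϖ ^ (a + 1))}) (⊤ : Submodule Γ(X, U) Γ(Q, U)) Module.Finite.fg_top
    (fun w _ => by
      obtain ⟨v, rfl⟩ := QC.app_surjective_of_epi hU hQ.1 hQ.1 (P ϖ Q (a + 1)) w
      rw [FormAlg.smulMod_app]
      exact Submodule.smul_mem_smul (Ideal.mem_span_singleton_self _) Submodule.mem_top)
  obtain ⟨d, hd⟩ := Ideal.mem_span_singleton'.1 hr
  have hyr : y ∈ X.basicOpen r := by
    by_contra hn
    rw [X.mem_basicOpen _ y hyU] at hn
    have hu : ¬ IsUnit (X.presheaf.germ U y hyU (secRing R U (ϖ ^ (a + 1)))) := fun h =>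
      mem_basicOpen_of_closed hϖ hyU (closed_point_over hϖ y hyc) a ((X.mem_basicOpen _ y hyU).2 h)
    have h1 : X.presheaf.germ U y hyU r ∈ IsLocalRing.maximalIdeal _ := (IsLocalRing.mem_maximalIdeal _).2 hn
    have h2 : X.presheaf.germ U y hyU (r - 1) ∈ IsLocalRing.maximalIdeal (X.presheaf.stalk y) := by
      rw [← hd, map_mul]
      exact Ideal.mul_mem_left _ _ ((IsLocalRing.mem_maximalIdeal _).2 hu)
    rw [map_sub, map_one] at h2
    have := Ideal.sub_mem _ h1 h2
    rw [sub_sub_cancel] at this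
    exact (IsLocalRing.maximalIdeal.isMaximal _).ne_top ((Ideal.eq_top_iff_one _).2 this)
  have hxr : x ∈ X.basicOpen r := (specializes_iff_mem_closure.2 hy).mem_open (X.basicOpen r).2 hyr
  obtain ⟨r', hr', hxr'⟩ := hU.exists_basicOpen_le (V := U' ⊓ X.basicOpen r) ⟨x, hx, hxr⟩ hxU
  refine ⟨X.basicOpen r', hr'.trans inf_le_left, hxr', ?_⟩
  rw [map_zero]
  obtain ⟨m, w, hw⟩ := (QC.isLoc_of_isQCoh hU (M := Q)).exists_extend r' (res Q (hr'.trans inf_le_left) z)
  have h0 := congrArg (res Q (X.basicOpen_le r')) (hr0 w Submodule.mem_top)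
  rw [res_smul, map_zero, hw] at h0
  have hur : IsUnit (resO X (X.basicOpen_le r') r) := by
    rw [← resO_resO (hr'.trans inf_le_right) (X.basicOpen_le r)]
    exact (RingedSpace.isUnit_res_basicOpen _ r).map _
  have hu' : IsUnit (resO X (X.basicOpen_le r') r') := RingedSpace.isUnit_res_basicOpen _ r'
  exact ((hu'.pow m).smul_eq_zero).1 (hur.smul_eq_zero.1 h0)

/-- The heart: lift a basis from a truncation. -/
theorem exists_iso_free (hϖ : Irreducible ϖ) (c : ℕ) (ha : Stable ϖ a X)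
    (hc : TorsLE ϖ a (Coh.structureModule X) c) {E : X.Modules} (hE : FlatMod.IsFinLocFree E) (s : ℕ)
    (hs : FlatMod.IsFinLocFreeOfRank s E) (W : X.Opens) (hWD : W = X.basicOpen (secRing R (⊤ : X.Opens) ϖ))
    (ψ : Γ(E, W) ≃+ Γ(FlatMod.freeMod X s, W)) (hψ : ∀ (c : Γ(X, W)) (z : Γ(E, W)), ψ (c • z) = c • ψ z)
    (φ : C ϖ E (a + (c + 1)) ≅ C ϖ (FlatMod.freeMod X s) (a + (c + 1))) :
    Nonempty (E ≅ FlatMod.freeMod X s) := by
  let F := FlatMod.freeMod X s
  have hF : FlatMod.IsFinLocFree F := DCohLocus.isFinLocFree_free X s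
  have hTE := tf_of_stable ϖ a ha hE
  have hTF := tf_of_stable ϖ a ha hF
  haveI := finite_hh_red ϖ a hF 0
  haveI : IsArtinian R (R ⧸ Ideal.span {ϖ}) := by
    haveI : (Ideal.span {ϖ}).IsMaximal := (PrincipalIdealRing.isMaximal_of_irreducible hϖ)
    haveI : IsSimpleModule R (R ⧸ Ideal.span {ϖ}) :=
      isSimpleModule_iff_isCoatom.mpr (Ideal.isMaximal_def.1 ‹_›)
    infer_instance
  obtain ⟨L⟩ := exists_equiv_red a hϖ hTE hTF hE hF W hWD ψ hψ
  have hlE := lifts_of_iso ϖ a hTE hTF (c + 1) (Nat.succ_pos c) L φ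
    (torsLE_lifts ϖ a hTF c (torsLE_freeMod ϖ a hc s))
  have hcE := torsLE_of_lifts ϖ a hTE c hlE
  let hle : a + 1 ≤ a + (c + 1) := by omega
  let v : Fin s → (Coh.structureModule X ⟶ C ϖ E (a + (c + 1))) := fun i =>
    Sigma.ι (fun _ : Fin s => Coh.structureModule X) i ≫ cπ ϖ F (a + (c + 1)) ≫ φ.inv
  have hex : ∀ i, ∃ w : Coh.structureModule X ⟶ E, w ≫ cπ ϖ E (a + 1) = v i ≫ red ϖ E hle := fun i => by
    obtain ⟨z, hz⟩ := exists_lift ϖ a hTE c hcE (Φ R _ (TMul.val (v i) ⊤))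
    obtain ⟨z, rfl⟩ := (Φ R E).surjective z
    rw [Φ_natural, Φ_natural] at hz
    refine ⟨TMul.homOf z, TMul.hom_ext_val ?_⟩
    rw [TMul.val_comp, TMul.val_comp, TMul.val_homOf, res_self]
    exact (Φ R _).injective hz
  choose w hw using hex
  let u : F ⟶ E := Sigma.desc w
  have hu : u ≫ cπ ϖ E (a + 1) = cπ ϖ F (a + (c + 1)) ≫ φ.inv ≫ red ϖ E hle := by
    refine Sigma.hom_ext _ _ fun i => ?_
    rw [Sigma.ι_desc_assoc, hw]
    simp only [v, Category.assoc]
  haveI : Epi (u ≫ cπ ϖ E (a + 1)) := by rw [hu]; exact epi_comp' inferInstance (epi_comp _ _)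
  let Q := cokernel u
  have hQ1 : Epi (P ϖ Q (a + 1)) := by
    refine Abelian.epi_of_cokernel_π_eq_zero _ ?_
    let d : C ϖ E (a + 1) ⟶ C ϖ Q (a + 1) := cokernel.desc _ (cokernel.π u ≫ cπ ϖ Q (a + 1)) (by
      rw [← Category.assoc, P_natural, Category.assoc, cokernel.condition, comp_zero])
    have hd : cπ ϖ E (a + 1) ≫ d = cokernel.π u ≫ cπ ϖ Q (a + 1) := cokernel.π_desc _ _ _
    have hd0 : d = 0 := by
      rw [← cancel_epi (u ≫ cπ ϖ E (a + 1)), comp_zero, Category.assoc, hd, cokernel.condition_assoc, zero_comp]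
    rw [← cancel_epi (cokernel.π u), comp_zero, ← hd, hd0, comp_zero]
  haveI : IsLocallyNoetherian X := LocallyOfFiniteType.isLocallyNoetherian (X ↘ Spec (CommRingCat.of R))
  haveI : CompactSpace X := QuasiCompact.compactSpace_of_compactSpace (X ↘ Spec (CommRingCat.of R))
  have hQ : Coh.IsCoh Q := QC.isCoh_cokernel (LocFree.isQCoh_of_isFinLocFree hF) (K0Coh.isCoh_of_isFinLocFree hE) u
  have hzero : IsZero Q := isZero_of_epi_P a hϖ hQ hQ1
  haveI : Epi u := Preadditive.epi_of_isZero_cokernel u hzero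
  haveI := QuotProj.isIso_of_epi_rank u (freeRank X s) hs
  exact ⟨(asIso u).symm⟩

end DVR

end Groth.Agent.FreeTrunc
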