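import Groth.Agent.FreeTrunc.Main

/-!
Ranks and restriction of trivialisations.
-/

set_option autoImplicit false
set_option backward.isDefEq.respectTransparency false
set_option linter.style.haveILetI false
set_option linter.unusedSectionVars false

universe u

open CategoryTheory CategoryTheory.Limits AlgebraicGeometry TopologicalSpace Opposite
open Groth.Agent.W7Cech (secRing)

noncomputable section

namespace Groth.Agent.FreeTrunc

variable {X Z : Scheme.{u}} {E : X.Modules}

/-- The rank of a pullback which is free. -/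
theorem rank_pull (i : Z ⟶ X) {s : ℕ} (e : (Scheme.Modules.pullback i).obj E ≅ FlatMod.freeMod Z s)
    {U : X.Opens} {m : ℕ} (eU : E.restrict U.ι ≅ FlatMod.freeMod (↑U) m) (z : Z) (hz : i z ∈ U) : m = s :=
  ModDesc.rank_unique
    (((DerPerf.pullRestrictIso i U).app E) ≪≫ (Scheme.Modules.pullback (i ∣_ U)).mapIso eU ≪≫
      DerPerf.pullFreeIso (i ∣_ U) m)
    ((Scheme.Modules.restrictFunctorIsoPullback (⊤ : Z.Opens).ι).app _ ≪≫
      (Scheme.Modules.pullback (⊤ : Z.Opens).ι).mapIso e ≪≫ DerPerf.pullFreeIso _ s)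
    (x := z) hz trivial

/-- An isomorphism of pullbacks along an open immersion, on sections. -/
theorem exists_sect_equiv {F : X.Modules} (j : Z ⟶ X) [IsOpenImmersion j]
    (e : (Scheme.Modules.pullback j).obj E ≅ (Scheme.Modules.pullback j).obj F) :
    ∃ ψ : Γ(E, j ''ᵁ ⊤) ≃+ Γ(F, j ''ᵁ ⊤), ∀ (c : Γ(X, j ''ᵁ ⊤)) z, ψ (c • z) = c • ψ z := by
  let θ : E.restrict j ≅ F.restrict j := (Scheme.Modules.restrictFunctorIsoPullback j).app E ≪≫ e ≪≫
    ((Scheme.Modules.restrictFunctorIsoPullback j).app F).symm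
  refine ⟨AddMonoidHom.toAddEquiv (θ.hom.app ⊤).hom (θ.inv.app ⊤).hom ?_ ?_, fun c z => ?_⟩
  · ext z
    exact congr(($(θ.hom_inv_id)).app ⊤ z)
  · ext z
    exact congr(($(θ.inv_hom_id)).app ⊤ z)
  · have h := Scheme.Modules.Hom.app_smul θ.hom ((j.appIso ⊤).hom c) (show Γ(E.restrict j, ⊤) from z)
    have e : ∀ (G : X.Modules) (w : Γ(G, j ''ᵁ ⊤)),
        (j.appIso ⊤).hom c • (show Γ(G.restrict j, ⊤) from w) = (show Γ(G.restrict j, ⊤) from c • w) := fun G w => by
      show (j.appIso ⊤).inv ((j.appIso ⊤).hom c) • w = c • w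
      rw [Iso.hom_inv_id_apply]
    rw [e] at h
    exact h.trans (e F _)

end Groth.Agent.FreeTrunc
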