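import Groth.Agent.FreeTrunc.Cohom
import Groth.Agent.CohFinite.Proper
import Groth.Agent.W7Cech.GlobSec
import Groth.Agent.FormAlg.Thicken
import Groth.Agent.MLImage.Main
import Groth.Agent.K0Coh.Basic
import Groth.Agent.DCohLocus.FreeLocus
import Groth.Agent.LocFree.SemiLocal

/-!
Bounded torsion on a Noetherian scheme and sections of the torsion-free quotients.
-/

set_option autoImplicit false
set_option backward.isDefEq.respectTransparency false
set_option linter.style.haveILetI false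
set_option linter.unusedSectionVars false

universe u

open CategoryTheory CategoryTheory.Limits AlgebraicGeometry TopologicalSpace Opposite
open Groth.Agent.QC (res resO res_res res_self res_smul resO_resO app_res)
open Groth.Agent.CohFinite (hhMap)
open Groth.Agent.W7Cech (secRing)

noncomputable section

namespace Groth.Agent.FreeTrunc

variable {A : Type u} [CommRing A] {X : Scheme.{u}} [X.Over (Spec (CommRingCat.of A))] (t : A) (a : ℕ)

/-- Every point has small affine neighbourhoods on which the torsion is killed by `t ^ a`. -/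
def Stable (X : Scheme.{u}) [X.Over (Spec (CommRingCat.of A))] : Prop :=
  ∀ (x : X) (W : X.Opens), x ∈ W → ∃ V : X.Opens, IsAffineOpen V ∧ x ∈ V ∧ V ≤ W ∧
    ∀ (c : Γ(X, V)) (j : ℕ), secRing A V t ^ (a + j) * c = 0 → secRing A V t ^ a * c = 0

theorem exists_stable [IsNoetherian X] : ∃ a, Stable t a X := by
  classical
  obtain ⟨F, hF⟩ := isCompact_univ.elim_finite_subcover (fun U : X.affineOpens => (U.1 : Set X))
    (fun U => U.1.2) (fun x _ => by
      obtain ⟨U, hU, hx, -⟩ := exists_isAffineOpen_mem_and_subset (x := x) (U := ⊤) trivial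
      exact Set.mem_iUnion.2 ⟨⟨U, hU⟩, hx⟩)
  have hN : ∀ U : X.affineOpens, ∃ N : ℕ, ∀ m (z : Γ(X, U.1)), secRing A U.1 t ^ m • z = 0 →
      secRing A U.1 t ^ N • z = 0 := fun U => by
    haveI : IsNoetherianRing Γ(X, U.1) := IsLocallyNoetherian.component_noetherian U
    exact FormAlg.exists_pow_torsion_bound (secRing A U.1 t) Γ(X, U.1)
  choose N hN using hN
  refine ⟨F.sup N, fun x W hxW => ?_⟩
  obtain ⟨U, hUF, hxU⟩ := Set.mem_iUnion₂.1 (hF (Set.mem_univ x))
  obtain ⟨r, hrW, hxr⟩ := U.2.exists_basicOpen_le ⟨x, hxW⟩ hxU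
  refine ⟨X.basicOpen r, U.2.basicOpen r, hxr, hrW, fun c j hc => ?_⟩
  letI := (resO X (X.basicOpen_le r)).toAlgebra
  haveI : IsLocalization (Submonoid.powers r) Γ(X, X.basicOpen r) := U.2.isLocalization_basicOpen r
  obtain ⟨⟨c₀, m⟩, hm⟩ := IsLocalization.surj (Submonoid.powers r) c
  have hs : ∀ n, algebraMap Γ(X, U.1) Γ(X, X.basicOpen r) (secRing A U.1 t ^ n * c₀) =
      secRing A (X.basicOpen r) t ^ n * (c * algebraMap _ _ (m : Γ(X, U.1))) := fun n => by
    rw [map_mul, map_pow, hm]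
    exact congrArg (fun s => s ^ n * _) (W7Cech.resO_secRing A (X.basicOpen_le r) t)
  have h0 : algebraMap Γ(X, U.1) Γ(X, X.basicOpen r) (secRing A U.1 t ^ (F.sup N + j) * c₀) = 0 := by
    rw [hs, ← mul_assoc, hc, zero_mul]
  obtain ⟨k, hk⟩ := (IsLocalization.map_eq_zero_iff (Submonoid.powers r) _ _).1 h0
  have h1 : secRing A U.1 t ^ N U • ((k : Γ(X, U.1)) * c₀) = 0 := hN U (F.sup N + j) _ (by
    rw [smul_eq_mul, mul_left_comm, hk])
  have h2 : algebraMap Γ(X, U.1) Γ(X, X.basicOpen r) (secRing A U.1 t ^ F.sup N * c₀) = 0 := by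
    refine (IsLocalization.map_eq_zero_iff (Submonoid.powers r) _ _).2 ⟨k, ?_⟩
    obtain ⟨d, hd⟩ := Nat.exists_eq_add_of_le (Finset.le_sup (f := N) hUF)
    rw [hd, pow_add, mul_comm (secRing A U.1 t ^ N U), mul_assoc, mul_left_comm, mul_left_comm (k : Γ(X, U.1)),
      ← smul_eq_mul (secRing A U.1 t ^ N U), h1, mul_zero]
  rw [hs, ← mul_assoc] at h2
  exact (IsLocalization.map_units Γ(X, X.basicOpen r) m).mul_left_eq_zero.1 h2

theorem P_app (M : X.Modules) (n : ℕ) (U : X.Opens) (s : Γ(M, U)) :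
    (P t M n).app U s = secRing A U t ^ n • s := by
  rw [P, FormAlg.smulMod_app, map_pow]

theorem tf_of_stable (h : Stable t a X) {E : X.Modules} (hE : FlatMod.IsFinLocFree E) : TF t a E := by
  intro K β j hβ
  refine Scheme.Modules.hom_ext _ _ fun U => ?_
  ext s
  have h0 : secRing A U t ^ (a + j) • β.app U s = 0 := by
    rw [← P_app]
    exact congr(($hβ).app U s)
  show (P t E a).app U (β.app U s) = 0
  rw [P_app]
  refine QC.section_eq_of_locally fun x hx => ?_
  obtain ⟨T, n, hxT, ⟨e⟩⟩ := hE x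
  obtain ⟨V, hV, hxV, hVle, hst⟩ := h x (U ⊓ T) ⟨hx, hxT⟩
  refine ⟨V, fun z hz => (hVle hz).1, hxV, ?_⟩
  obtain ⟨b⟩ := LocFree.exists_basis_sections_of_le e hV fun z hz => (hVle hz).2
  have h1 := congrArg (res E (show V ≤ U from fun z hz => (hVle hz).1)) h0
  rw [res_smul, map_zero, map_pow, W7Cech.resO_secRing] at h1
  rw [res_smul, map_zero, map_pow, W7Cech.resO_secRing]
  refine b.ext_elem fun i => ?_
  have h2 := congrArg (fun z => b.repr z i) h1
  simp only [map_smul, map_zero, Finsupp.smul_apply, Finsupp.coe_zero, Pi.zero_apply, smul_eq_mul] at h2 ⊢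
  exact hst _ j h2

variable [IsProper (X ↘ Spec (CommRingCat.of A))] [IsNoetherianRing A]

theorem isCoh_red {E : X.Modules} (hE : FlatMod.IsFinLocFree E) : Coh.IsCoh (Red t a E) := by
  haveI : IsLocallyNoetherian X := LocallyOfFiniteType.isLocallyNoetherian (X ↘ Spec (CommRingCat.of A))
  exact MLImage.isCoh_image (K0Coh.isCoh_of_isFinLocFree hE) (K0Coh.isCoh_of_isFinLocFree hE) _

theorem finite_hh_red {E : X.Modules} (hE : FlatMod.IsFinLocFree E) (q : ℕ) :
    Module.Finite A (Coh.HH X (Red t a E) q) :=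
  CohFinite.finite_proper A X _ (isCoh_red t a hE) q

variable (A) in
/-- Global sections as cohomology classes. -/
def Φ (M : X.Modules) : Γ(M, ⊤) ≃+ Coh.HH X M 0 := W7Cech.gsH0 A M

theorem Φ_natural {M N : X.Modules} (f : M ⟶ N) (s : Γ(M, ⊤)) :
    hhMap A f 0 (Φ A M s) = Φ A N (f.app ⊤ s) :=
  (W7Cech.gsH0_natural A f s).symm

theorem smul_eq (M : X.Modules) (x : Coh.HH X M 0) (c : A) :
    (Φ A M).symm (c • x) = secRing A (⊤ : X.Opens) c • (Φ A M).symm x := by
  obtain ⟨s, rfl⟩ := (Φ A M).surjective x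
  rw [← FormAlg.hhMap_smulMod M c 0, Φ_natural, AddEquiv.symm_apply_apply, AddEquiv.symm_apply_apply,
    FormAlg.smulMod_app]

variable {E F : X.Modules}

/-- The value on `W` of a class of the torsion-free quotient. -/
def ev (M : X.Modules) (W : X.Opens) (x : Coh.HH X (Red t a M) 0) : Γ(M, W) :=
  res M (le_top : W ≤ ⊤) ((ofRed t a M).app ⊤ ((Φ A (Red t a M)).symm x))

theorem ev_add (M : X.Modules) (W : X.Opens) (x y : Coh.HH X (Red t a M) 0) :
    ev t a M W (x + y) = ev t a M W x + ev t a M W y := by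
  rw [ev, map_add, map_add, map_add]
  rfl

theorem ev_smul (M : X.Modules) (W : X.Opens) (x : Coh.HH X (Red t a M) 0) (c : A) :
    ev t a M W (c • x) = secRing A W c • ev t a M W x := by
  rw [ev, smul_eq, Scheme.Modules.Hom.app_smul, res_smul, W7Cech.resO_secRing]
  rfl

theorem eq_zero_of_ev (hM : TF t a E) (hE : FlatMod.IsFinLocFree E) {W : X.Opens}
    (hW : X.basicOpen (secRing A (⊤ : X.Opens) t) ≤ W) {x : Coh.HH X (Red t a E) 0} (hx : ev t a E W x = 0) : x = 0 := by
  haveI : CompactSpace X := QuasiCompact.compactSpace_of_compactSpace (X ↘ Spec (CommRingCat.of A))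
  haveI := LocFree.isQCoh_of_isFinLocFree hE
  obtain ⟨s, rfl⟩ := (Φ A (Red t a E)).surjective x
  simp only [ev, AddEquiv.symm_apply_apply] at hx
  have h0 := congrArg (res E hW) hx
  rw [res_res, map_zero] at h0
  obtain ⟨n, hn⟩ := QC.exists_pow_smul_eq_zero_of_isCompact (M := E) (W := ⊤) isCompact_univ _ _ h0
  have hinjP := CohFinite.map_f_injective (CohFinite.shortExact_toAb (seqA_shortExact t a hM n))
  have hinjι := CohFinite.map_f_injective (CohFinite.shortExact_toAb (seqB_shortExact t a hM 0))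
  apply hinjP
  show hhMap A (P t (Red t a E) n) 0 _ = hhMap A (P t (Red t a E) n) 0 0
  rw [map_zero, Φ_natural]
  apply hinjι
  show hhMap A (ofRed t a E ≫ P t E 0) 0 _ = hhMap A (ofRed t a E ≫ P t E 0) 0 0
  rw [map_zero, P_zero, Category.comp_id, Φ_natural, P_app, Scheme.Modules.Hom.app_smul]
  exact (congrArg (Φ A E) hn).trans (map_zero _)

theorem exists_extend (hE : FlatMod.IsFinLocFree E) {W : X.Opens} (hW : W ≤ X.basicOpen (secRing A (⊤ : X.Opens) t))
    (hW' : X.basicOpen (secRing A (⊤ : X.Opens) t) ≤ W) (z : Γ(E, W)) :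
    ∃ (n : ℕ) (y : Coh.HH X (Red t a E) 0), ev t a E W y = secRing A W t ^ n • z := by
  obtain rfl : W = X.basicOpen (secRing A (⊤ : X.Opens) t) := le_antisymm hW hW'
  haveI : CompactSpace X := QuasiCompact.compactSpace_of_compactSpace (X ↘ Spec (CommRingCat.of A))
  haveI : QuasiSeparatedSpace X := quasiSeparatedSpace_of_quasiSeparated (X ↘ Spec (CommRingCat.of A))
  haveI := LocFree.isQCoh_of_isFinLocFree hE
  obtain ⟨m, s, hs⟩ := QC.exists_pow_smul_extends_of_isCompact (M := E) (W := ⊤) isCompact_univ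
    isQuasiSeparated_univ (secRing A (⊤ : X.Opens) t) z
  refine ⟨a + m, Φ A (Red t a E) ((toRed t a E).app ⊤ s), ?_⟩
  rw [ev, AddEquiv.symm_apply_apply]
  have e : (ofRed t a E).app ⊤ ((toRed t a E).app ⊤ s) = secRing A (⊤ : X.Opens) t ^ a • s := by
    rw [← P_app, ← toRed_ofRed]
    rfl
  rw [e, res_smul, map_pow, hs, smul_smul, W7Cech.resO_secRing, ← pow_add]

/-- An isomorphism over the open where `t` is invertible gives an injection on sections up to powers. -/
theorem exists_injective (hME : TF t a E) (hMF : TF t a F) (hE : FlatMod.IsFinLocFree E)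
    (hF : FlatMod.IsFinLocFree F) (W : X.Opens) (hWD : W = X.basicOpen (secRing A (⊤ : X.Opens) t))
    (ψ : Γ(E, W) →+ Γ(F, W)) (hψ : ∀ (c : Γ(X, W)) (z : Γ(E, W)), ψ (c • z) = c • ψ z)
    (hψinj : Function.Injective ψ) :
    ∃ Ψ : Coh.HH X (Red t a E) 0 →ₗ[A] Coh.HH X (Red t a F) 0, Function.Injective Ψ := by
  haveI := finite_hh_red t a hE 0
  have hu : IsUnit (secRing A W t) := by
    subst hWD
    rw [← W7Cech.resO_secRing A (le_top : X.basicOpen (secRing A (⊤ : X.Opens) t) ≤ ⊤) t]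
    exact RingedSpace.isUnit_res_basicOpen _ _
  let S : ℕ → Submodule A (Coh.HH X (Red t a E) 0) := fun n =>
    { carrier := {x | ∃ y, ev t a F W y = secRing A W t ^ n • ψ (ev t a E W x)}
      add_mem' := by
        rintro x x' ⟨y, hy⟩ ⟨y', hy'⟩
        exact ⟨y + y', by rw [ev_add, ev_add, map_add, smul_add, hy, hy']⟩
      zero_mem' := ⟨0, by
        have h : ∀ M : X.Modules, ev t a M W (0 : Coh.HH X (Red t a M) 0) = 0 := fun M => by
          simp only [ev, map_zero]
        rw [h, h, map_zero, smul_zero]⟩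
      smul_mem' := by
        rintro c x ⟨y, hy⟩
        exact ⟨c • y, by rw [ev_smul, ev_smul, hψ, hy, smul_comm]⟩ }
  have hmono : Monotone S := fun n m hnm x ⟨y, hy⟩ => ⟨t ^ (m - n) • y, by
    rw [ev_smul, hy, map_pow, smul_smul, ← pow_add, Nat.sub_add_cancel hnm]⟩
  obtain ⟨N, hN⟩ : ∃ N, ∀ x, x ∈ S N := by
    obtain ⟨k, g, hg⟩ := Module.Finite.exists_fin (R := A) (M := Coh.HH X (Red t a E) 0)
    choose n y hy using fun i => exists_extend t a hF hWD.le hWD.ge (ψ (ev t a E W (g i)))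
    refine ⟨Finset.univ.sup n, fun x => ?_⟩
    have : (⊤ : Submodule A _) ≤ S (Finset.univ.sup n) := hg ▸ Submodule.span_le.2 (by
      rintro _ ⟨i, rfl⟩
      exact hmono (Finset.le_sup (Finset.mem_univ i)) ⟨y i, hy i⟩)
    exact this Submodule.mem_top
  choose Ψ hΨ using hN
  have hev0 : ∀ {x y : Coh.HH X (Red t a F) 0}, ev t a F W x = ev t a F W y → x = y := fun {x y} h => by
    refine sub_eq_zero.1 (eq_zero_of_ev t a hMF hF hWD.ge ?_)
    have := ev_add t a F W (x - y) y
    rw [sub_add_cancel, h, eq_comm, add_eq_right] at this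
    exact this
  refine ⟨{ toFun := Ψ, map_add' := fun x y => hev0 ?_, map_smul' := fun c x => hev0 ?_ }, ?_⟩
  · rw [ev_add, hΨ, hΨ, hΨ, ev_add, map_add, smul_add]
  · rw [RingHom.id_apply, ev_smul, hΨ, hΨ, ev_smul, hψ, smul_comm]
  · rw [injective_iff_map_eq_zero]
    intro x hx
    have h1 := hΨ x
    change Ψ x = 0 at hx
    rw [hx, show ev t a F W (0 : Coh.HH X (Red t a F) 0) = 0 by simp only [ev, map_zero]] at h1
    refine eq_zero_of_ev t a hME hE hWD.ge (hψinj ?_)
    rw [map_zero]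
    exact ((hu.pow N).smul_eq_zero).1 h1.symm

end Groth.Agent.FreeTrunc
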